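import Cfsg.Agent.Lib.Helper80.AS.CL2A
import Cfsg.Agent.Lib.Helper80.C6.CHARP

set_option autoImplicit false

namespace Cfsg.Agent.Lib.Helper80.C6

open Cfsg Cfsg.Geo
open Cfsg.Agent.Lib.Helper80.AS
open Cfsg.Agent.Lib.Helper77.Asch (NormBy MinOver)
open scoped MatrixGroups Matrix Kronecker

variable {ι : Type} [Fintype ι] [DecidableEq ι] {F : Type*} [Field F]

theorem cardx_neg_mem : (-1 : GL ι F) ∈ scalars ι F := by
  rw [mem_scalars_iff]
  exact ⟨-1, by simp⟩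

theorem cardx_one_ne [Nonempty ι] (h2 : (2 : F) ≠ 0) : (1 : GL ι F) ≠ -1 := by
  intro h
  obtain ⟨i⟩ := ‹Nonempty ι›
  have h1 : ((1 : GL ι F) : Matrix ι ι F) i i = ((-1 : GL ι F) : Matrix ι ι F) i i := by rw [← h]
  simp at h1
  apply h2
  linear_combination h1

/-- a scalar isometry of a symplectic form is `± 1`. -/
theorem cardx_pm [Nonempty ι] (f : (ι → F) → (ι → F) → F) (hf : IsSymplecticForm f) (x : GL ι F)
    (hx : ∀ u v, f ((x : Matrix ι ι F) *ᵥ u) ((x : Matrix ι ι F) *ᵥ v) = f u v) (hs : x ∈ scalars ι F) :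
    x = 1 ∨ x = -1 := by
  obtain ⟨c, hc⟩ := (mem_scalars_iff x).1 hs
  obtain ⟨i⟩ := ‹Nonempty ι›
  have hne : (Pi.single i 1 : ι → F) ≠ 0 := by
    intro h
    have := congrFun h i
    simp at this
  obtain ⟨u, hu⟩ := (hf.nondegenerate _ hne).1
  have h1 := hx u (Pi.single i 1)
  rw [hc, Matrix.smul_mulVec, Matrix.smul_mulVec, Matrix.one_mulVec, Matrix.one_mulVec,
    hf.bilinear.smul_left, hf.bilinear.smul_right] at h1
  have h3 : ((c : F) - 1) * ((c : F) + 1) = 0 := by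
    have h4 : (((c : F) - 1) * ((c : F) + 1)) * f u (Pi.single i 1) = 0 := by linear_combination h1
    exact (mul_eq_zero.1 h4).resolve_right hu
  rcases mul_eq_zero.1 h3 with h5 | h5
  · left
    apply Units.ext
    rw [hc, Units.val_one]
    have : (c : F) = 1 := by linear_combination h5
    rw [this, one_smul]
  · right
    apply Units.ext
    rw [hc, Units.val_neg, Units.val_one]
    have : (c : F) = -1 := by linear_combination h5
    rw [this, neg_smul, one_smul]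

theorem cardx_core [Finite F] [Nonempty ι] (h2 : (2 : F) ≠ 0) (f : (ι → F) → (ι → F) → F)
    (hf : IsSymplecticForm f) (R : Subgroup (GL ι F)) (hfix : FixesForm (matrixSet R) f)
    (habs : ActsAbsolutelyIrreducibly (matrixSet R)) (hneg : (-1 : GL ι F) ∈ R)
    (hcomm : ∀ x ∈ R, ∀ y ∈ R, x * y = y * x ∨ x * y = -(y * x)) :
    Nat.card R = 2 * Fintype.card ι ^ 2 := by
  classical
  have hsub : matrixSet R ⊆ matrixSet (R ⊔ scalars ι F) := by
    rintro _ ⟨g, hg, rfl⟩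
    exact ⟨g, (le_sup_left : R ≤ R ⊔ scalars ι F) hg, rfl⟩
  have habsN : ActsAbsolutelyIrreducibly (matrixSet (R ⊔ scalars ι F)) :=
    ⟨fun W hW => habs.1 W (fun s hs => hW s (hsub hs)), fun M hM => habs.2 M (fun s hs => hM s (hsub hs))⟩
  have hab : ⁅R ⊔ scalars ι F, R ⊔ scalars ι F⁆ ≤ scalars ι F := by
    rw [Subgroup.commutator_le]
    intro g₁ hg₁ g₂ hg₂
    rw [Subgroup.mem_sup_of_normal_right] at hg₁ hg₂
    obtain ⟨r₁, hr₁, z₁, hz₁, rfl⟩ := hg₁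
    obtain ⟨r₂, hr₂, z₂, hz₂, rfl⟩ := hg₂
    rw [commutatorElement_def]
    have e : r₁ * z₁ * (r₂ * z₂) * (r₁ * z₁)⁻¹ * (r₂ * z₂)⁻¹ = r₁ * r₂ * r₁⁻¹ * r₂⁻¹ := by
      have c1 := charp_central z₁ hz₁
      have c2 := charp_central z₂ hz₂
      calc r₁ * z₁ * (r₂ * z₂) * (r₁ * z₁)⁻¹ * (r₂ * z₂)⁻¹
          = r₁ * (z₁ * r₂) * z₂ * (z₁⁻¹ * r₁⁻¹) * (z₂⁻¹ * r₂⁻¹) := by group
        _ = r₁ * (r₂ * z₁) * z₂ * (z₁⁻¹ * r₁⁻¹) * (z₂⁻¹ * r₂⁻¹) := by rw [c1 r₂]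
        _ = r₁ * r₂ * (z₁ * z₂) * z₁⁻¹ * r₁⁻¹ * z₂⁻¹ * r₂⁻¹ := by group
        _ = r₁ * r₂ * (z₂ * z₁) * z₁⁻¹ * r₁⁻¹ * z₂⁻¹ * r₂⁻¹ := by rw [c2 z₁]
        _ = r₁ * r₂ * (z₂ * r₁⁻¹) * z₂⁻¹ * r₂⁻¹ := by group
        _ = r₁ * r₂ * (r₁⁻¹ * z₂) * z₂⁻¹ * r₂⁻¹ := by rw [c2 r₁⁻¹]
        _ = r₁ * r₂ * r₁⁻¹ * r₂⁻¹ := by group
    rw [e]
    rcases hcomm r₁ hr₁ r₂ hr₂ with h | h
    · rw [h]
      have : r₂ * r₁ * r₁⁻¹ * r₂⁻¹ = 1 := by group
      rw [this]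
      exact one_mem _
    · rw [h]
      have : -(r₂ * r₁) * r₁⁻¹ * r₂⁻¹ = -1 := by
        rw [neg_mul, neg_mul]
        congr 1
        group
      rw [this]
      exact cardx_neg_mem
  have h1 := card_quot_eq_sq (R ⊔ scalars ι F) le_sup_right habsN hab
  have h3 : (scalars ι F).relIndex R = Fintype.card ι ^ 2 := by
    rw [← Subgroup.relIndex_sup_right, ← h1]
    rfl
  have h4 : Nat.card ((scalars ι F).subgroupOf R) = 2 := by
    rw [Nat.card_eq_two_iff]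
    refine ⟨1, ⟨⟨-1, hneg⟩, by rw [Subgroup.mem_subgroupOf]; exact cardx_neg_mem⟩, ?_, ?_⟩
    · intro h
      have := congrArg (fun t : ((scalars ι F).subgroupOf R) => ((t : R) : GL ι F)) h
      exact cardx_one_ne h2 this
    · rw [Set.eq_univ_iff_forall]
      rintro ⟨⟨x, hxR⟩, hxZ⟩
      rw [Subgroup.mem_subgroupOf] at hxZ
      rcases cardx_pm f hf x (fun u v => hfix _ ⟨x, hxR, rfl⟩ u v) hxZ with h | h
      · left
        exact Subtype.ext (Subtype.ext h)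
      · right
        exact Subtype.ext (Subtype.ext h)
  have h5 := Subgroup.index_mul_card ((scalars ι F).subgroupOf R)
  rw [h4] at h5
  have h6 : ((scalars ι F).subgroupOf R).index = Fintype.card ι ^ 2 := h3
  rw [h6] at h5
  omega

end Cfsg.Agent.Lib.Helper80.C6
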