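import Cfsg.Agent.Lib.Helper99.SP4O.Defs
import Cfsg.Agent.Lib.Helper77.AschG.RGRP
import Cfsg.Agent.Lib.Helper80.C6.CARDX0

set_option autoImplicit false

namespace Cfsg.Agent.Lib.Helper80.C6

open Cfsg Cfsg.Geo
open Cfsg.Agent.Lib.Helper80.AS
open Cfsg.Agent.Lib.Helper99.SP4O (IsEx5)
open Cfsg.Agent.Lib.Helper77.Asch (NormBy MinOver)
open scoped MatrixGroups Matrix Kronecker

variable {ι : Type} [Fintype ι] [DecidableEq ι] {F : Type*} [Field F]

/-- CARDX. -/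
theorem card_ex [Finite F] [Nonempty ι] (h2 : (2 : F) ≠ 0) (f : (ι → F) → (ι → F) → F) (hf : IsSymplecticForm f)
    (R : Subgroup (GL ι F)) (hR : IsEx5 f R) : Nat.card R = 2 * Fintype.card ι ^ 2 :=
  cardx_core h2 f hf R hR.fixes hR.abs hR.neg hR.comm

end Cfsg.Agent.Lib.Helper80.C6
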