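import Cfsg.Agent.Lib.Helper99.SP4O.Defs
import Cfsg.Agent.Lib.Helper99.SP4O.E5CARD

set_option autoImplicit false

namespace Cfsg.Agent.Lib.Helper80.C6

open Cfsg Cfsg.Geo
open Cfsg.Agent.Lib.Helper80.AS
open Cfsg.Agent.Lib.Helper99.SP4O (IsEx5)
open Cfsg.Agent.Lib.Helper77.Asch (NormBy MinOver)
open scoped MatrixGroups Matrix Kronecker commutatorElement

variable {ι : Type} [Fintype ι] [DecidableEq ι] {F : Type*} [Field F]

open Cfsg.Agent.Lib.Helper99.SP4O in
/-- CENR. -/
theorem card_center_two [Nonempty ι] (h2 : (2 : F) ≠ 0) (f : (ι → F) → (ι → F) → F) (hf : IsSymplecticForm f)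
    (R : Subgroup (GL ι F)) (hR : IsEx5 f R) : Nat.card (Subgroup.center R) = 2 := by
  have htwo := e5card_two h2 f hf R hR
  have hcen : Subgroup.center R = (scalars ι F).subgroupOf R := by
    ext x
    rw [Subgroup.mem_center_iff, Subgroup.mem_subgroupOf]
    constructor
    · intro hx
      obtain ⟨c, hc⟩ := hR.abs.2 (x.1 : Matrix ι ι F) (by
        rintro _ ⟨y, hy, rfl⟩
        have := congrArg (fun u : R => ((u : GL ι F) : Matrix ι ι F)) (hx ⟨y, hy⟩)
        simpa using this.symm)
      have hc0 : c ≠ 0 := by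
        rintro rfl
        have h1 : ((x.1 * x.1⁻¹ : GL ι F) : Matrix ι ι F) = 1 := by
          rw [mul_inv_cancel, Units.val_one]
        rw [Units.val_mul, hc, zero_smul, zero_mul] at h1
        obtain ⟨i⟩ := ‹Nonempty ι›
        have := congrFun (congrFun h1 i) i
        simp at this
      rw [mem_scalars_iff]
      exact ⟨Units.mk0 c hc0, hc⟩
    · intro hx y
      apply Subtype.ext
      exact (e5card_scalar_comm x.1 hx y.1).symm
  rw [hcen, htwo]

end Cfsg.Agent.Lib.Helper80.C6
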