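import Cfsg.Agent.Lib.Helper80.AS.CL2A
import Cfsg.Agent.Lib.Helper80.AS.CL2B
import Cfsg.Agent.Lib.Helper77.AschG.RGRP

set_option autoImplicit false

namespace Cfsg.Agent.Lib.Helper80.C6

open Cfsg Cfsg.Geo
open Cfsg.Agent.Lib.Helper80.AS
open Cfsg.Agent.Lib.Helper77.Asch (NormBy MinOver)
open scoped MatrixGroups Matrix Kronecker

variable {ι : Type} [Fintype ι] [DecidableEq ι] {F : Type*} [Field F]

theorem dim2_central (z : GL ι F) (hz : z ∈ scalars ι F) (g : GL ι F) : g * z = z * g := by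
  obtain ⟨c, hc⟩ := (mem_scalars_iff z).1 hz
  apply Units.ext
  rw [Units.val_mul, Units.val_mul, hc]
  simp

/-- DIM2. -/
theorem dim_two_pow [Fintype F] [Nonempty ι] (hev : Even (Fintype.card ι)) (Γ N : Subgroup (GL ι F))
    (hmin : MinOver Γ (scalars ι F) N) (habs : ActsAbsolutelyIrreducibly (matrixSet N))
    (hab : ⁅N, N⁆ ≤ scalars ι F) :
    (∃ k : ℕ, 1 ≤ k ∧ Fintype.card ι = 2 ^ k) ∧ ∀ x ∈ N, x ^ 2 ∈ scalars ι F := by
  have h1 := card_quot_eq_sq N hmin.lt.le habs hab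
  obtain ⟨r, j, hr, h2⟩ := card_quot_prime_pow Γ (scalars ι F) N hmin hab
  have h2n : 2 ∣ Fintype.card ι := hev.two_dvd
  have h3 : 2 ∣ r ^ j := by
    rw [← h2, h1]
    exact Dvd.dvd.pow h2n (by norm_num)
  have h5 : 2 = r := (Nat.prime_dvd_prime_iff_eq Nat.prime_two hr).1 (Nat.prime_two.dvd_of_dvd_pow h3)
  subst h5
  constructor
  · have h6 : Fintype.card ι ∣ 2 ^ j := by
      rw [← h2, h1]
      exact Dvd.intro_left _ (by ring)
    obtain ⟨k, -, hk⟩ := (Nat.dvd_prime_pow Nat.prime_two).mp h6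
    refine ⟨k, ?_, hk⟩
    rcases Nat.eq_zero_or_pos k with h0 | h0
    · rw [h0, pow_zero] at hk
      rw [hk] at h2n
      omega
    · exact h0
  · obtain ⟨r', hr', hexp⟩ := Cfsg.Agent.Lib.Helper77.AschG.exists_prime_exp Γ (scalars ι F) N
      (fun z hz g => dim2_central z hz g) hmin hab
    obtain ⟨x, hxN, hxZ⟩ := SetLike.exists_of_lt hmin.lt
    have hq1 : (QuotientGroup.mk (⟨x, hxN⟩ : N) : N ⧸ (scalars ι F).subgroupOf N) ≠ 1 := by
      intro h
      rw [QuotientGroup.eq_one_iff, Subgroup.mem_subgroupOf] at h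
      exact hxZ h
    have hq2 : (QuotientGroup.mk (⟨x, hxN⟩ : N) : N ⧸ (scalars ι F).subgroupOf N) ^ r' = 1 := by
      rw [← QuotientGroup.mk_pow, QuotientGroup.eq_one_iff, Subgroup.mem_subgroupOf]
      exact hexp x hxN
    have hq3 : orderOf (QuotientGroup.mk (⟨x, hxN⟩ : N) : N ⧸ (scalars ι F).subgroupOf N) = r' := by
      rcases (Nat.dvd_prime hr').mp (orderOf_dvd_of_pow_eq_one hq2) with h | h
      · exact absurd (orderOf_eq_one_iff.mp h) hq1
      · exact h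
    have hq4 : r' ∣ 2 ^ j := by
      rw [← h2, ← hq3]
      exact orderOf_dvd_natCard _
    have hq5 : r' = 2 := (Nat.prime_dvd_prime_iff_eq hr' Nat.prime_two).1 (hr'.dvd_of_dvd_pow hq4)
    rw [hq5] at hexp
    exact hexp

end Cfsg.Agent.Lib.Helper80.C6
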