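import Cfsg.Agent.Lib.Helper80.AS.SCR

set_option autoImplicit false

namespace Cfsg.Agent.Lib.Helper80.C6

open Cfsg Cfsg.Geo
open Cfsg.Agent.Lib.Helper80.AS
open scoped MatrixGroups Matrix Kronecker

variable {ι : Type} [Fintype ι] [DecidableEq ι] {F : Type*} [Field F]

/-- NONC. -/
theorem exists_noncomm_i [Nonempty ι] (hcard : 1 < Fintype.card ι) (N : Subgroup (GL ι F))
    (habs : ActsAbsolutelyIrreducibly (matrixSet N)) : ∃ x ∈ N, ∃ y ∈ N, x * y ≠ y * x := by
  by_contra hcon
  push_neg at hcon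
  have hle : N ≤ scalars ι F := by
    intro x hx
    obtain ⟨c, hc⟩ := habs.2 (x : Matrix ι ι F) (by
      rintro _ ⟨y, hy, rfl⟩
      have := hcon x hx y hy
      have h2 := congrArg (fun g : GL ι F => (g : Matrix ι ι F)) this
      simpa using h2)
    have hc0 : c ≠ 0 := by
      rintro rfl
      have hdet : IsUnit (x : Matrix ι ι F).det := by
        have := x.isUnit
        exact (Matrix.isUnit_iff_isUnit_det _).1 this
      rw [hc] at hdet
      simp at hdet
    rw [mem_scalars_iff]
    exact ⟨Units.mk0 c hc0, by simpa using hc⟩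
  apply not_irr_scalars (ι := ι) (F := F) (by omega)
  intro W hW
  apply habs.1 W
  rintro _ ⟨g, hg, rfl⟩
  exact hW _ ⟨g, hle hg, rfl⟩

end Cfsg.Agent.Lib.Helper80.C6
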