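import Cfsg.Agent.Lib.Helper99.SP4O.Defs
import Cfsg.Agent.Lib.Helper99.SP4O.E5EXP
import Cfsg.Agent.Lib.Helper80.C6.NONC

set_option autoImplicit false

namespace Cfsg.Agent.Lib.Helper80.C6

open Cfsg Cfsg.Geo
open Cfsg.Agent.Lib.Helper80.AS
open Cfsg.Agent.Lib.Helper99.SP4O (IsEx5)
open Cfsg.Agent.Lib.Helper77.Asch (NormBy MinOver)
open scoped MatrixGroups Matrix Kronecker commutatorElement

variable {ι : Type} [Fintype ι] [DecidableEq ι] {F : Type*} [Field F]

open Cfsg.Agent.Lib.Helper99.SP4O in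
/-- EXPO. -/
theorem exponent_four [Nonempty ι] (hcard : 1 < Fintype.card ι) (f : (ι → F) → (ι → F) → F)
    (R : Subgroup (GL ι F)) (hR : IsEx5 f R) : Monoid.exponent R = 4 ∧ IsPGroup 2 R := by
  have h4 : ∀ x : R, x ^ 4 = 1 := by
    intro x
    apply Subtype.ext
    have : (x : GL ι F) ^ 4 = ((x : GL ι F) * x) * ((x : GL ι F) * x) := by
      rw [show (4 : ℕ) = 2 + 2 from rfl, pow_add, pow_two]
    rw [Subgroup.coe_pow, this]
    rcases hR.sq x x.2 with h | h <;> rw [h] <;> simp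
  refine ⟨?_, fun x => ⟨2, by simpa using h4 x⟩⟩
  have hdvd : Monoid.exponent R ∣ 4 := Monoid.exponent_dvd_of_forall_pow_eq_one h4
  have hnd : ¬ Monoid.exponent R ∣ 2 := by
    intro hd
    have hsq : ∀ x : R, x * x = 1 := fun x => by
      obtain ⟨k, hk⟩ := hd
      rw [← pow_two, hk, pow_mul, Monoid.pow_exponent_eq_one, one_pow]
    obtain ⟨x, hx, y, hy, hxy⟩ := exists_noncomm_i hcard R hR.abs
    apply hxy
    have hx' : x * x = 1 := congrArg Subtype.val (hsq ⟨x, hx⟩)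
    have hy' : y * y = 1 := congrArg Subtype.val (hsq ⟨y, hy⟩)
    have hxy' : (x * y) * (x * y) = 1 := congrArg Subtype.val (hsq ⟨x * y, R.mul_mem hx hy⟩)
    exact e5exp_grp x y hx' hy' hxy'
  have hmem : Monoid.exponent R ∈ Nat.divisors 4 := Nat.mem_divisors.mpr ⟨hdvd, by norm_num⟩
  have hdiv : Nat.divisors 4 = {1, 2, 4} := by decide
  rw [hdiv] at hmem
  simp only [Finset.mem_insert, Finset.mem_singleton] at hmem
  rcases hmem with h | h | h
  · exact absurd (by rw [h]; exact one_dvd 2) hnd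
  · exact absurd (by rw [h]) hnd
  · exact h

end Cfsg.Agent.Lib.Helper80.C6
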