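import Mathlib

set_option autoImplicit false

namespace Cfsg.Agent.Lib.Helper80.C6

variable {F : Type*} [Field F]

open Polynomial in
/-- FROB. -/
theorem exists_aut_ne_refl [Fintype F] (h : ¬ (Fintype.card F).Prime) : ∃ σ : F ≃+* F, σ ≠ RingEquiv.refl F := by
  classical
  obtain ⟨p, hchar⟩ := CharP.exists F
  obtain ⟨n, hp, hcard⟩ := FiniteField.card F p
  have : Fact p.Prime := ⟨hp⟩
  refine ⟨frobeniusEquiv F p, fun hσ => h ?_⟩
  have hfix : ∀ x : F, x ^ p = x := by
    intro x
    have h1 := congrArg (fun σ : F ≃+* F => σ x) hσ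
    simpa [frobeniusEquiv_apply, frobenius_def] using h1
  have hp1 : 1 < p := hp.one_lt
  have hle : Fintype.card F ≤ p := by
    have hne : (X ^ p - X : F[X]) ≠ 0 := FiniteField.X_pow_card_sub_X_ne_zero F hp1
    have hsub : (Finset.univ : Finset F) ⊆ (X ^ p - X : F[X]).roots.toFinset := by
      intro x _
      rw [Multiset.mem_toFinset, mem_roots hne, IsRoot.def]
      simp [hfix x]
    calc Fintype.card F = (Finset.univ : Finset F).card := rfl
      _ ≤ (X ^ p - X : F[X]).roots.toFinset.card := Finset.card_le_card hsub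
      _ ≤ Multiset.card (X ^ p - X : F[X]).roots := Multiset.toFinset_card_le _
      _ ≤ (X ^ p - X : F[X]).natDegree := card_roots' _
      _ = p := FiniteField.X_pow_card_sub_X_natDegree_eq F hp1
  rw [hcard] at hle ⊢
  have hn : (n : ℕ) ≤ 1 := by
    have h2 : p ^ (n : ℕ) ≤ p ^ 1 := by rw [pow_one]; exact hle
    exact (Nat.pow_le_pow_iff_right hp1).mp h2
  have hn1 : (n : ℕ) = 1 := le_antisymm hn n.pos
  rw [hn1, pow_one]
  exact hp

end Cfsg.Agent.Lib.Helper80.C6
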