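import Mathlib

set_option autoImplicit false

namespace Cfsg.Agent.Lib.Helper80.C6

open scoped MatrixGroups Matrix Kronecker

variable {ι : Type} [Fintype ι] [DecidableEq ι] {F : Type*} [Field F]

/-- ODDQ. -/
theorem two_ne_zero_of_anti (x y : GL ι F) (h1 : x * y ≠ y * x) (h2 : x * y = -(y * x)) : (2 : F) ≠ 0 := by
  intro h
  apply h1
  rw [h2]
  apply Units.ext
  ext i j
  have hneg : ∀ a : F, -a = a := by
    intro a
    have : a + a = 0 := by
      have : (2 : F) * a = 0 := by rw [h, zero_mul]
      linear_combination this
    linear_combination -this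
  simp only [Units.val_neg, Matrix.neg_apply]
  exact hneg _

end Cfsg.Agent.Lib.Helper80.C6
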