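import Cfsg.Agent.Lib.Helper99.SP4O.Defs
import Cfsg.Agent.Lib.Helper99.SP4O.C6R
import Cfsg.Agent.Lib.Helper77.AschG.RGRP

set_option autoImplicit false

namespace Cfsg.Agent.Lib.Helper80.C6

open Cfsg Cfsg.Geo
open Cfsg.Agent.Lib.Helper80.AS
open Cfsg.Agent.Lib.Helper99.SP4O (IsEx5)
open Cfsg.Agent.Lib.Helper77.Asch (NormBy MinOver)
open scoped MatrixGroups Matrix Kronecker

variable {ι : Type} [Fintype ι] [DecidableEq ι] {F : Type*} [Field F]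

/-- SCPM.  A scalar `c • 1` fixing `f` has `c² = 1`. -/
theorem scalar_pm_one [Nonempty ι] (f : (ι → F) → (ι → F) → F) (hf : IsSymplecticForm f) (R : Subgroup (GL ι F))
    (hR : IsEx5 f R) (x : GL ι F) (hx : x ∈ R) (hs : x ∈ scalars ι F) : x = 1 ∨ x = -1 :=
  Cfsg.Agent.Lib.Helper99.SP4O.c6r_scalar_iso f hf x hs (fun u v => hR.fixes _ ⟨x, hx, rfl⟩ u v)

end Cfsg.Agent.Lib.Helper80.C6
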