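import Cfsg.Agent.Lib.Helper80.AS.MULT
import Cfsg.Agent.Lib.Helper77.AschG.EXP2

set_option autoImplicit false

namespace Cfsg.Agent.Lib.Helper80.C6

open Cfsg Cfsg.Geo
open Cfsg.Agent.Lib.Helper80.AS
open Cfsg.Agent.Lib.Helper77.Asch (NormBy MinOver)
open scoped MatrixGroups Matrix Kronecker

variable {ι : Type} [Fintype ι] [DecidableEq ι] {F : Type*} [Field F]

theorem supr_central (z : GL ι F) (hz : z ∈ scalars ι F) (g : GL ι F) : g * z = z * g := by
  obtain ⟨c, hc⟩ := (mem_scalars_iff z).1 hz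
  apply Units.ext
  rw [Units.val_mul, Units.val_mul, hc]
  simp

theorem supr_exists_scalar (c : Fˣ) :
    ∃ z : GL ι F, z ∈ scalars ι F ∧ (z : Matrix ι ι F) = (c : F) • (1 : Matrix ι ι F) :=
  ⟨Units.map (Matrix.scalar ι : F →+* Matrix ι ι F).toMonoidHom c, ⟨c, rfl⟩, by
    simp [Matrix.smul_one_eq_diagonal]⟩

/-- conjugating an isometry by a similitude gives an isometry. -/
theorem supr_conj_iso (f : (ι → F) → (ι → F) → F) (g x : GL ι F) (hg : g ∈ similarityGroup f)
    (hx : x ∈ multIso f) : g * x * g⁻¹ ∈ multIso f := by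
  obtain ⟨c, hc⟩ := hg
  intro u v
  rw [Units.val_mul, Units.val_mul, ← Matrix.mulVec_mulVec, ← Matrix.mulVec_mulVec,
    ← Matrix.mulVec_mulVec, ← Matrix.mulVec_mulVec, hc, hx, ← hc, Matrix.mulVec_mulVec,
    Matrix.mulVec_mulVec, ← Units.val_mul, mul_inv_cancel, Units.val_one, Matrix.one_mulVec,
    Matrix.one_mulVec]

/-- an element of `N` whose multiplier is a square lies in `(N ⊓ multIso f) ⊔ Z`. -/
theorem supr_key (f : (ι → F) → (ι → F) → F) (hb : IsBilinearForm f) (N : Subgroup (GL ι F))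
    (hZ : scalars ι F ≤ N) (x : GL ι F) (hx : x ∈ N) (d : Fˣ)
    (hm : ∀ u v, f ((x : Matrix ι ι F) *ᵥ u) ((x : Matrix ι ι F) *ᵥ v) = ((d ^ 2 : Fˣ) : F) * f u v) :
    x ∈ (N ⊓ multIso f) ⊔ scalars ι F := by
  obtain ⟨z, hz, hzv⟩ := supr_exists_scalar (ι := ι) d⁻¹
  have h1 : z * x ∈ N ⊓ multIso f := by
    refine ⟨N.mul_mem (hZ hz) hx, ?_⟩
    intro u v
    rw [Units.val_mul, hzv, Matrix.smul_mul, Matrix.one_mul, Matrix.smul_mulVec, Matrix.smul_mulVec,
      hb.smul_left, hb.smul_right, hm]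
    have hd : (d : F) ≠ 0 := d.ne_zero
    rw [Units.val_pow_eq_pow_val, Units.val_inv_eq_inv_val]
    field_simp
  have h2 : x = (z * x) * z⁻¹ := by
    rw [← supr_central z hz x, mul_assoc, mul_inv_cancel, mul_one]
  rw [h2]
  exact Subgroup.mul_mem _ (Subgroup.mem_sup_left h1)
    (Subgroup.mem_sup_right ((scalars ι F).inv_mem hz))

/-- SUPR. -/
theorem iso_sup_scalars [Fintype F] [Nonempty ι] (f : (ι → F) → (ι → F) → F) (hf : IsSymplecticForm f)
    (Γ N : Subgroup (GL ι F)) (hΓ : Γ ≤ similarityGroup f) (hmin : MinOver Γ (scalars ι F) N)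
    (hnc : ∃ x ∈ N, ∃ y ∈ N, x * y ≠ y * x) : (N ⊓ multIso f) ⊔ scalars ι F = N := by
  have hZ : scalars ι F ≤ N := hmin.lt.le
  have hnorm : NormBy Γ ((N ⊓ multIso f) ⊔ scalars ι F) := by
    intro g hg x hx
    have hle : (N ⊓ multIso f) ⊔ scalars ι F ≤
        ((N ⊓ multIso f) ⊔ scalars ι F).comap (MulAut.conj g).toMonoidHom := by
      apply sup_le
      · intro y hy
        rw [Subgroup.mem_comap]
        apply Subgroup.mem_sup_left
        exact ⟨hmin.norm g hg y hy.1, supr_conj_iso f g y (hΓ hg) hy.2⟩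
      · intro y hy
        rw [Subgroup.mem_comap]
        apply Subgroup.mem_sup_right
        exact scalars_normal.conj_mem y hy g
    exact hle hx
  rcases hmin.min _ le_sup_right (sup_le inf_le_left hZ) hnorm with h | h
  · exfalso
    obtain ⟨x, hx, y, hy, hxy⟩ := hnc
    obtain ⟨α, hα⟩ := hΓ (hmin.le hx)
    obtain ⟨β, hβ⟩ := hΓ (hmin.le hy)
    rcases Cfsg.Agent.Lib.Helper77.AschG.exp2_sq_cases α β with ⟨d, hd⟩ | ⟨d, hd⟩ | ⟨d, hd⟩
    · have h1 := supr_key f hf.bilinear N hZ x hx d (by rw [← hd]; exact hα)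
      rw [h] at h1
      exact hxy (supr_central x h1 y).symm
    · have h1 := supr_key f hf.bilinear N hZ y hy d (by rw [← hd]; exact hβ)
      rw [h] at h1
      exact hxy (supr_central y h1 x)
    · have h1 := supr_key f hf.bilinear N hZ (x * y) (N.mul_mem hx hy) d (by
        intro u v
        rw [← hd, Units.val_mul, ← Matrix.mulVec_mulVec, ← Matrix.mulVec_mulVec, hα, hβ,
          Units.val_mul, mul_assoc])
      rw [h] at h1
      have h2 := supr_central (x * y) h1 x
      apply hxy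
      have h3 : x * (x * y) = x * (y * x) := by rw [h2, mul_assoc]
      exact mul_left_cancel h3
  · exact h

end Cfsg.Agent.Lib.Helper80.C6
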