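import Cfsg.Agent.Lib.Helper80.C6.DIM2
import Cfsg.Agent.Lib.Helper80.C6.NONC
import Cfsg.Agent.Lib.Helper80.C6.ODDQ
import Cfsg.Agent.Lib.Helper80.C6.SUPR
import Cfsg.Agent.Lib.Helper80.C6.SCPM
import Cfsg.Agent.Lib.Helper80.C6.CENR
import Cfsg.Agent.Lib.Helper80.C6.CARDX
import Cfsg.Agent.Lib.Helper80.C6.EXPO
import Cfsg.Agent.Lib.Helper80.C6.CHARP
import Cfsg.Agent.Lib.Helper80.C6.FROB
import Cfsg.Agent.Lib.Helper11.SpG.TWIST
import Cfsg.Agent.Lib.Helper11.SpG.MINUS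
import Cfsg.Agent.Lib.Helper99.SP4O.C6R
import Cfsg.Agent.Lib.Helper99.SP4O.C6N
import Cfsg.Agent.Lib.Helper11.SpG.DESC
import Cfsg.Agent.Lib.Helper80.AS.Main

set_option autoImplicit false

namespace Cfsg.Agent.Lib.Helper80.C6

open Cfsg Cfsg.Geo
open Cfsg.Agent.Lib.Helper80.AS
open Cfsg.Agent.Lib.Helper99.SP4O (IsEx5)
open Cfsg.Agent.Lib.Helper77.Asch (NormBy MinOver)
open scoped MatrixGroups Matrix Kronecker

variable {ι : Type} [Fintype ι] [DecidableEq ι] {F : Type*} [Field F]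

/-- the class-6 block of Aschbacher's theorem for the symplectic groups, general dimension. -/
theorem class_two_cases [Fintype F] [Nonempty ι] (hev : Even (Fintype.card ι))
    (f : (ι → F) → (ι → F) → F) (hf : IsSymplecticForm f) (Γ N : Subgroup (GL ι F))
    (hΓ : Γ ≤ similarityGroup f) (hmin : MinOver Γ (scalars ι F) N)
    (habs : ActsAbsolutelyIrreducibly (matrixSet N)) (hab : ⁅N, N⁆ ≤ scalars ι F) :
    (∃ (F₀ : Subfield F) (r : ℕ) (P : GL ι F) (ζ : F), r.Prime ∧ Fintype.card F = Nat.card F₀ ^ r ∧ ζ ≠ 0 ∧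
      IsFormRationalStructure f F₀ ζ P ∧ Γ ≤ subfieldSubgroup F₀ P) ∨
    (∃ (R : Subgroup (GL ι F)) (p k : ℕ), IsSymplecticTypeGroup 2 R ∧
      ActsAbsolutelyIrreducibly (matrixSet R) ∧ R ≤ similarityGroup f ∧ p.Prime ∧ Odd p ∧ Fintype.card F = p ∧
      Nat.card R = 2 ^ (1 + 2 * k) ∧ Nat.card (Subgroup.center R) = 2 ∧ IsOfMinusType k R ∧
      Γ ≤ subgroupNormalizer R) := by
  classical
  obtain ⟨⟨k, hk1, hk⟩, hsq⟩ := dim_two_pow hev Γ N hmin habs hab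
  have hcard1 : 1 < Fintype.card ι := by
    rw [hk]
    exact Nat.one_lt_pow (by omega) (by norm_num)
  have hnc := exists_noncomm_i hcard1 N habs
  have hsup := iso_sup_scalars f hf Γ N hΓ hmin hnc
  obtain ⟨R, hRd⟩ : ∃ R, R = N ⊓ multIso f := ⟨_, rfl⟩
  rw [← hRd] at hsup
  have hnorm : NormBy Γ R := hRd ▸ Helper99.SP4O.normBy_inf_iso f Γ N hΓ hmin.norm
  have hR : IsEx5 f R := by
    rw [hRd]
    refine Helper99.SP4O.ex5_of_class_two f hf N hmin.lt.le habs hab (fun x hx => ?_) ?_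
    · rw [← pow_two]; exact hsq x hx
    · calc N = R ⊔ scalars ι F := hsup.symm
        _ ≤ multIso f ⊔ scalars ι F := sup_le_sup_right (hRd ▸ inf_le_right) _
  have hRabs := hR.abs
  obtain ⟨x, hx, y, hy, hxy⟩ := exists_noncomm_i hcard1 R hRabs
  have h2 : (2 : F) ≠ 0 := by
    rcases hR.comm x hx y hy with h | h
    · exact absurd h hxy
    · exact two_ne_zero_of_anti x y hxy h
  have hcardR := card_ex h2 f hf R hR
  have hneg : ∃ z ∈ R, (z : Matrix ι ι F) = -1 := ⟨-1, hR.neg, by simp⟩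
  have hle : Γ ≤ subgroupNormalizer R := mn_le_normalizer hnorm
  by_cases hp : (Fintype.card F).Prime
  · right
    obtain ⟨hexp, hpg⟩ := exponent_four hcard1 f R hR
    refine ⟨R, Fintype.card F, k, ⟨Nat.prime_two, hpg,
      fun A hA hc => char_abelian_cyclic_i Γ N R hmin habs hsup hnorm A hA hc, by rw [hexp]; rfl⟩, hRabs, ?_, hp,
      odd_card_iff.2 h2, rfl, ?_, card_center_two h2 f hf R hR, ?_, hle⟩
    · exact (hRd ▸ inf_le_left : R ≤ N).trans (hmin.le.trans hΓ)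
    · rw [hcardR, hk]; ring
    · exact Helper11.SpG.minus_type h2 f hf R (fun g hg u v => hR.fixes _ ⟨g, hg, rfl⟩ u v) hRabs hneg hcardR k hk
  · left
    obtain ⟨σ, hσ⟩ := exists_aut_ne_refl hp
    obtain ⟨M, hM, hMs⟩ := Helper11.SpG.exists_twist h2 σ R hRabs hneg hcardR
    obtain ⟨F₀, hF₀, B, hB⟩ := Helper11.SpG.realisable_of_twist σ hσ R hRabs M hM hMs
    obtain ⟨F₁, r, hle1, hr, hcardF⟩ := Helper77.Asch.exists_prime_subfield F₀ hF₀
    have hB1 : ∀ s ∈ matrixSet R, ∀ i j,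
        ((B : Matrix ι ι F) * s * ((B⁻¹ : GL ι F) : Matrix ι ι F)) i j ∈ F₁ :=
      fun s hs i j => hle1 (hB s hs i j)
    obtain ⟨ζ, hζ, hrat⟩ := form_rational f hf.bilinear hf.nondegenerate R hRabs hR.fixes F₁ B hB1
    exact ⟨F₁, r, B⁻¹, ζ, hr, hcardF, hζ, hrat, hle.trans (normalizer_le_subfield R hRabs F₁ B hB1)⟩

end Cfsg.Agent.Lib.Helper80.C6
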